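import Cfsg.Agent.Lib.Helper12.TCG.U35x18000.Tab
import Cfsg.Agent.Lib.Helper12.TCG.U35x18000.FinRecs

/-! the final table for U35x18000, part 4 (generated, helper12) -/

set_option autoImplicit false
set_option maxRecDepth 100000

namespace Cfsg.Agent.Lib.Helper12.TCG.U35x18000

open Cfsg.Agent.Lib.Helper12.TC Cfsg.Agent.Lib.Helper12.TCG

theorem hfin_4 : allListK fr4 (fun rec => finRecG cIV F LIVE cK 3 rec) = true := by decide +kernel

theorem hlive_4 : Nat.beq (liveK fr4) LIVE4 = true := by decide +kernel

end Cfsg.Agent.Lib.Helper12.TCG.U35x18000
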