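import Cfsg.Agent.Lib.Helper12.TCG.U35x18000.Chk0
import Cfsg.Agent.Lib.Helper12.TCG.U35x18000.Chk1
import Cfsg.Agent.Lib.Helper12.TCG.U35x18000.Perm
import Cfsg.Agent.Lib.Helper12.TCG.U35x18000.Fin

/-! the index theorem for U35x18000 (generated, helper12) -/

set_option autoImplicit false
set_option maxRecDepth 100000
set_option linter.unusedSimpArgs false

namespace Cfsg.Agent.Lib.Helper12.TCG.U35x18000

open Cfsg.Agent.Lib.Helper12.TC Cfsg.Agent.Lib.Helper12.TCG Cfsg.Agent.Lib.Helper12.TCG.U35Pres

/-- the chunks of the certificate -/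
def chunks : List (ℕ × List ℕ) :=
  [(27115, c0), (29115, c1), (31115, c2), (33115, c3), (35115, c4), (37115, c5), (39115, c6), (41115, c7), (43115, c8), (45115, c9), (47115, c10)]

theorem hcover : coverK cD cK chunks = true := by decide +kernel

theorem hchunks : ∀ c ∈ chunks, chunkG cIV F RW cR0 c.2 c.1 = true := by
  unfold chunks
  simp only [List.forall_mem_cons, List.not_mem_nil, false_imp_iff, implies_true, and_true]
  exact ⟨chunk0, chunk1, chunk2, chunk3, chunk4, chunk5, chunk6, chunk7, chunk8, chunk9, chunk10⟩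

end Cfsg.Agent.Lib.Helper12.TCG.U35x18000
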